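import Cfsg.Agent.H39.FusionShape.ModelDQ
import Cfsg.Agent.H39.FusionShape.ModelSD
import Cfsg.Agent.H39.FusionShape.ModelWr
import Mathlib.LinearAlgebra.Matrix.ProjectiveSpecialLinearGroup

/-!
Dihedral 2-groups as Sylow subgroups of `PSL₂(p)`, quasi-dihedral and wreathed ones as Sylow subgroups of `PSL₃(p)`.
-/

set_option autoImplicit false
set_option linter.style.haveILetI false

namespace Cfsg.Agent.H39.FusionRankTwo

open Cfsg.Agent.H39.FusionShape
open scoped Matrix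

universe u

/-- An embedded Sylow 2-subgroup survives a quotient with kernel of odd order. -/
theorem push_odd {X G H : Type*} [Group X] [Group G] [Group H] [Finite G] (hX : IsPGroup 2 X) (π : G →* H)
    (hπ : Function.Surjective π) (hk : Odd (Nat.card π.ker)) {j : X →* G} (hj : Function.Injective j)
    (hT : ∃ T : Sylow 2 G, (T : Subgroup G) = j.range) :
    Function.Injective (π.comp j) ∧ ∃ T : Sylow 2 H, (T : Subgroup H) = (π.comp j).range := by
  haveI : Fact (Nat.Prime 2) := ⟨Nat.prime_two⟩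
  refine ⟨(injective_iff_map_eq_one _).2 fun a ha => ?_, ?_⟩
  · obtain ⟨k, hk'⟩ := IsPGroup.iff_orderOf.1 hX a
    have hd : orderOf a ∣ Nat.card π.ker := by
      rw [← orderOf_injective j hj a, ← Subgroup.orderOf_mk (j a) (show j a ∈ π.ker from ha)]
      exact orderOf_dvd_natCard _
    rw [← orderOf_eq_one_iff, hk']
    rcases k with _ | k
    · rfl
    · rw [hk'] at hd
      exact absurd hk (Nat.not_odd_iff_even.2 (even_iff_two_dvd.2 ((dvd_pow_self 2 k.succ_ne_zero).trans hd)))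
  · obtain ⟨T, hT⟩ := hT
    exact ⟨T.mapSurjective hπ, by rw [Sylow.coe_mapSurjective, hT, MonoidHom.range_comp]⟩

/-- The conclusion about a group `X`: it is a Sylow 2-subgroup of `PSLₙ(p)`, which is perfect. -/
def InPSL (n : ℕ) (X : Type u) [Group X] (p : ℕ) : Prop :=
  ∃ j : X →* ULift.{u} (Matrix.ProjectiveSpecialLinearGroup (Fin n) (ZMod p)), Function.Injective j ∧
    (∃ T : Sylow 2 (ULift.{u} (Matrix.ProjectiveSpecialLinearGroup (Fin n) (ZMod p))),
      (T : Subgroup (ULift.{u} (Matrix.ProjectiveSpecialLinearGroup (Fin n) (ZMod p)))) = j.range) ∧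
    commutator (ULift.{u} (Matrix.ProjectiveSpecialLinearGroup (Fin n) (ZMod p))) = ⊤

/-- A perfect special linear group stays perfect modulo its centre. -/
theorem commutator_psl (n p : ℕ) (h : commutator (Matrix.SpecialLinearGroup (Fin n) (ZMod p)) = ⊤) :
    commutator (ULift.{u} (Matrix.ProjectiveSpecialLinearGroup (Fin n) (ZMod p))) = ⊤ := by
  let e : ULift.{u} (Matrix.ProjectiveSpecialLinearGroup (Fin n) (ZMod p)) ≃*
    Matrix.ProjectiveSpecialLinearGroup (Fin n) (ZMod p) := MulEquiv.ulift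
  exact commutator_eq_top_map (e.symm.toMonoidHom.comp (QuotientGroup.mk' _))
    (e.symm.surjective.comp (QuotientGroup.mk'_surjective _)) h

/-- Passing from `SL₃(p)` to `PSL₃(p)`. -/
theorem inPSL_three {X : Type u} [Group X] (hX : IsPGroup 2 X) {p : ℕ} [Fact p.Prime] (hp : 4 < p)
    {j : X →* ULift.{u} (Matrix.SpecialLinearGroup (Fin 3) (ZMod p))} (hj : Function.Injective j)
    (hT : ∃ T : Sylow 2 (ULift.{u} (Matrix.SpecialLinearGroup (Fin 3) (ZMod p))),
      (T : Subgroup (ULift.{u} (Matrix.SpecialLinearGroup (Fin 3) (ZMod p)))) = j.range) :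
    InPSL 3 X p := by
  let e₀ : ULift.{u} (Matrix.SpecialLinearGroup (Fin 3) (ZMod p)) ≃* Matrix.SpecialLinearGroup (Fin 3) (ZMod p) :=
    MulEquiv.ulift
  let e : ULift.{u} (Matrix.ProjectiveSpecialLinearGroup (Fin 3) (ZMod p)) ≃*
    Matrix.ProjectiveSpecialLinearGroup (Fin 3) (ZMod p) := MulEquiv.ulift
  let π := (e.symm.toMonoidHom.comp (QuotientGroup.mk' _)).comp e₀.toMonoidHom
  have hk : Odd (Nat.card π.ker) := by
    have h : π.ker = (Subgroup.center (Matrix.SpecialLinearGroup (Fin 3) (ZMod p))).map e₀.symm.toMonoidHom := by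
      ext g
      simp only [π, MonoidHom.mem_ker, MonoidHom.comp_apply, MulEquiv.coe_toMonoidHom,
        EmbeddingLike.map_eq_one_iff, QuotientGroup.mk'_apply, QuotientGroup.eq_one_iff, Subgroup.mem_map]
      exact ⟨fun hg => ⟨e₀ g, hg, e₀.symm_apply_apply g⟩,
        fun ⟨x, hx, hxg⟩ => by rw [← hxg, e₀.apply_symm_apply]; exact hx⟩
    rw [h, ← Nat.card_congr ((Subgroup.center _).equivMapOfInjective _ e₀.symm.injective).toEquiv,
      Linear.card_center_SL, Fintype.card_fin]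
    exact Odd.of_dvd_nat (by decide : Odd 3) (Nat.gcd_dvd_left _ _)
  obtain ⟨h1, h2⟩ := push_odd hX π
    ((e.symm.surjective.comp (QuotientGroup.mk'_surjective _)).comp e₀.surjective) hk hj hT
  exact ⟨_, h1, h2, commutator_psl 3 p (Linear.commutator_SL_eq_top_of_card (Or.inl (by simp)))⟩

theorem exists_psl_two {X : Type u} [Group X] [Finite X] (hX : IsPGroup 2 X) {k : ℕ} (hk : 1 ≤ k) {c y : X}
    (h : TGen (2 ^ k) 0 c y) : ∃ (p : ℕ) (_ : Fact p.Prime), Odd p ∧ p % 8 = 1 ∧ InPSL 2 X p := by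
  obtain ⟨p, hp, b, hp4, hp8, hm⟩ := exists_cModel_SL k hk
  refine ⟨p, hp, Nat.odd_iff.2 (by omega), hp8, ?_⟩
  set a : Matrix.SpecialLinearGroup (Fin 2) (ZMod p) := dSL b
  haveI : (Subgroup.zpowers (a ^ (2 * 2 ^ k))).Normal := ⟨fun n hn g => by
    rw [Subgroup.mem_center_iff.1 (Subgroup.zpowers_le.2 hm.cen hn) g, mul_inv_cancel_right]; exact hn⟩
  obtain ⟨ho, hout, hz, hc⟩ := hm.quotient (by positivity)
  have hZ : Subgroup.zpowers (a ^ (2 * 2 ^ k)) = Subgroup.center (Matrix.SpecialLinearGroup (Fin 2) (ZMod p)) := by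
    refine Subgroup.eq_of_le_of_card_ge (Subgroup.zpowers_le.2 hm.cen) ?_
    rw [hz, Linear.card_center_SL, Fintype.card_fin]
    exact Nat.le_of_dvd two_pos (Nat.gcd_dvd_left _ _)
  let e : ULift.{u} (Matrix.ProjectiveSpecialLinearGroup (Fin 2) (ZMod p)) ≃*
      Matrix.SpecialLinearGroup (Fin 2) (ZMod p) ⧸ Subgroup.zpowers (a ^ (2 * 2 ^ k)) :=
    MulEquiv.ulift.trans (QuotientGroup.quotientMulEquivOfEq hZ.symm)
  set π := QuotientGroup.mk' (Subgroup.zpowers (a ^ (2 * 2 ^ k)))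
  have hs : π wSL * π wSL = π a ^ 0 := by
    rw [← map_mul, hm.sq, pow_zero]
    exact (QuotientGroup.eq_one_iff _).2 (Subgroup.mem_zpowers _)
  obtain ⟨j, hj, hT⟩ := exists_embedding_of_tModel h hX (HasTModel.of_equiv e ho
    (by rw [← map_inv, ← map_mul, ← map_mul, hm.inv, map_inv]) hs hout hc)
  exact ⟨j, hj, hT, commutator_psl 2 p (Linear.commutator_SL_eq_top_of_card
    (Or.inr (by rw [Nat.card_zmod]; omega)))⟩

theorem exists_psl_semiDih {X : Type u} [Group X] [Finite X] (hX : IsPGroup 2 X) {m : ℕ} {x y : X}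
    (h : SDGen m x y) : ∃ (p : ℕ) (_ : Fact p.Prime), Odd p ∧ InPSL 3 X p := by
  obtain ⟨p, hp, a, b, a', b', hp4, -, -, h1⟩ := exists_sd_GL m
  obtain ⟨j, hj, -, -, hT⟩ := exists_embedding_of_sdModel h h1.lift
  exact ⟨p, hp, hp.out.odd_of_ne_two (by omega), inPSL_three hX hp4 hj hT⟩

theorem exists_psl_wreathed {X : Type u} [Group X] [Finite X] {m : ℕ} {x y z : X} (h : WGen m x y z) :
    ∃ (p : ℕ) (_ : Fact p.Prime), Odd p ∧ InPSL 3 X p := by
  obtain ⟨p, hp, a₁, c₁, t₁, G₂, _, _, a₂, c₂, t₂, L, hp4, h1, -⟩ := w_models_SL.{u} m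
  obtain ⟨j, hj, -, -, -, hT⟩ := exists_embedding_of_wModel h h1
  exact ⟨p, hp, hp.out.odd_of_ne_two (by omega), inPSL_three h.isPGroup hp4 hj hT⟩

end Cfsg.Agent.H39.FusionRankTwo
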