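import Cfsg.Agent.H39.FusionRankTwo.Realize
import Cfsg.Agent.Fusion.PPower.Exists
import Cfsg.Agent.Fusion.PPower.Normal
import Cfsg.Agent.S5337

/-!
Simple saturated systems: trivial centre, full hyperfocal subgroup, and no abelian subgroup containing the
involutions with all maps on it coming from automorphisms, apart from the group itself.
-/

set_option autoImplicit false
set_option linter.style.haveILetI false

namespace Cfsg.Agent.H39.FusionRankTwo

open Cfsg Cfsg.FusionSystem Cfsg.Agent.FusionSys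

universe u

variable {Ω : Type u} [Group Ω] {S : Subgroup Ω} [Finite S] {F : FusionSystem S} {p : ℕ} [Fact p.Prime]

/-- The inner system of an abelian subgroup all of whose maps come from its automiser is normal. -/
theorem inner_isNormalIn (hS : IsPGroup p S) (hF : F.IsSaturated p) {T : Subgroup Ω} (hTS : T ≤ S)
    (hab : ∀ x ∈ T, ∀ y ∈ T, x * y = y * x)
    (hT : ∀ (P : Subgroup Ω) (f : Ω → Ω), P ≤ T → IsMap F P f →
      ∃ α ∈ F.autGroup T, ∀ x ∈ P, autMap α x = f x) :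
    (innerFusionSystem T).IsNormalIn F p := by
  haveI := finite_of_le hTS
  have hid : ∀ {P : Subgroup Ω}, P ≤ T → P.subtype ∈ (innerFusionSystem T).Hom P := fun {P} hP =>
    ⟨hP, 1, T.one_mem, fun x => by simp⟩
  refine ⟨⟨S5337.inner_isSaturated (hS.to_le hTS) hab, hF, ?_, ⟨hTS, fun R hR φ hφ x => ?_⟩, ?_, ?_⟩, ?_⟩
  · rintro P φ ⟨hP, g, hg, h⟩
    exact mem_hom_of_isMap (isMap_conj F (hP.trans hTS) (hTS hg)) h
  · obtain ⟨α, -, hα⟩ := hT R _ hR (isMap_of_mem hφ)
    rw [← homFun_coe φ x, ← hα x x.2]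
    exact autMap_mem α (hR x.2)
  · intro P hPT φ hφ α hα
    refine ⟨Subgroup.subtype _, hid (by rintro _ ⟨x, -, rfl⟩; exact (α x).2), fun x hφx hαx => ?_⟩
    show ((α ⟨x, hPT x.2⟩ : T) : Ω) = _
    congr 2
    exact Subtype.ext (S5337.hom_inner_eq hab hφ x).symm
  · intro P hP φ hφ
    obtain ⟨α, hα, he⟩ := hT P _ hP (isMap_of_mem hφ)
    refine ⟨α, hα, P.subtype, hid hP, fun x hx => ?_⟩
    rw [← homFun_coe φ x, ← he x x.2, autMap_apply α (hP x.2)]
    rfl
  · intro α hα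
    refine ⟨1, one_mem _, fun x => ?_, fun c hc => ?_⟩
    · obtain ⟨-, g, hg, he⟩ := isMap_inner_iff.1 ((mem_autGroup_iff le_rfl).1 hα)
      show (x : Ω) = _
      rw [← autMap_coe α x, he x x.2, hab g hg x x.2, mul_inv_cancel_right]
    · show (c : Ω)⁻¹ * c ∈ _
      rw [inv_mul_cancel]
      exact one_mem _

theorem center_eq_bot (hS : IsPGroup p S) (h : F.IsSimple p) (hcard : Nat.card S ≠ p) : F.center = ⊥ := by
  refine le_bot_iff.1 (sSup_le fun Q hQ => ?_)
  by_contra hne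
  obtain ⟨hQS, hfix⟩ := isCentral_iff.1 hQ
  haveI := finite_of_le hQS
  haveI : Nontrivial Q := (Subgroup.nontrivial_iff_ne_bot Q).2 fun e => hne e.le
  obtain ⟨n, hn, hcQ⟩ := (hS.to_le hQS).nontrivial_iff_card.1 inferInstance
  obtain ⟨z, hz⟩ := exists_prime_orderOf_dvd_card' (G := Q) p (hcQ ▸ dvd_pow_self p (by omega))
  set T := Subgroup.zpowers (z : Ω)
  have hTQ : T ≤ Q := Subgroup.zpowers_le.2 z.2
  have hTc : Nat.card T = p := by rw [Nat.card_zpowers, Subgroup.orderOf_coe, hz]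
  have hT : ∀ (P : Subgroup Ω) (f : Ω → Ω), P ≤ T → IsMap F P f →
      ∃ α ∈ F.autGroup T, ∀ x ∈ P, autMap α x = f x := by
    intro P f hP hf
    obtain ⟨g, -, hgP, hgQ⟩ := hfix P f hf
    refine ⟨1, one_mem _, fun x hx => ?_⟩
    rw [← hgP x hx, hgQ x (hTQ (hP hx)), autMap_apply _ (hP hx)]
    rfl
  rcases h.2.2 T _ (inner_isNormalIn hS h.1 (hTQ.trans hQS)
    (by rintro _ ⟨i, rfl⟩ _ ⟨k, rfl⟩; exact zpow_mul_comm _ i k) hT) with e | ⟨e, -⟩
  · exact (Fact.out : p.Prime).ne_one (by rw [← hTc, e, Subgroup.card_bot])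
  · exact hcard (e ▸ hTc)

theorem hyperfocal_eq (hS : IsPGroup p S) (h : F.IsSimple p) (hcard : Nat.card S ≠ p) :
    F.hyperfocalSubgroup p = S := by
  by_contra hne
  have hle := H90.hyp_le F p
  obtain ⟨M, hM, hHM⟩ := (eq_top_or_exists_le_coatom ((F.hyperfocalSubgroup p).subgroupOf S)).resolve_left
    fun e => hne (le_antisymm hle (Subgroup.subgroupOf_eq_top.1 e))
  haveI := hS.isNilpotent
  have hn : M.Normal := Subgroup.NormalizerCondition.normal_of_coatom M Group.normalizerCondition_of_isNilpotent hM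
  set T := M.map S.subtype
  have hTS : T ≤ S := Subgroup.map_subtype_le M
  have hT : F.hyperfocalSubgroup p ≤ T := fun x hx => ⟨⟨x, hle hx⟩, hHM hx, rfl⟩
  obtain ⟨E, hE, hi⟩ := Fusion.PPower.exists_pPower hS h.1 hTS hT
  have hTn : ∀ g ∈ S, ∀ x ∈ T, g * x * g⁻¹ ∈ T := by
    rintro g hg _ ⟨v, hv, rfl⟩
    exact ⟨⟨g, hg⟩ * v * ⟨g, hg⟩⁻¹, hn.conj_mem v hv _, rfl⟩
  rcases h.2.2 T E (Fusion.PPower.isNormalIn hS h.1 hTS hTn hE hi) with e | ⟨e, -⟩
  · have hMb : M = ⊥ := (Subgroup.map_eq_bot_iff_of_injective _ S.subtype_injective).1 e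
    haveI : Nontrivial S := (Subgroup.nontrivial_iff_ne_bot S).2 h.2.1
    obtain ⟨n, hn, hc⟩ := hS.nontrivial_iff_card.1 inferInstance
    obtain ⟨z, hz⟩ := exists_prime_orderOf_dvd_card' (G := S) p (hc ▸ dvd_pow_self p (by omega))
    have htop : Subgroup.zpowers z = ⊤ := hM.2 _ (by
      rw [hMb, bot_lt_iff_ne_bot, Ne, Subgroup.zpowers_eq_bot]
      rintro rfl
      exact (Fact.out : p.Prime).ne_one (by rw [← hz, orderOf_one]))
    exact hcard (by rw [← Subgroup.card_top (G := S), ← htop, Nat.card_zpowers, hz])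
  · refine hM.1 (Subgroup.map_injective S.subtype_injective ?_)
    rw [← MonoidHom.range_eq_map, Subgroup.range_subtype]
    exact e

theorem four_le_card (hr : Cfsg.PRankAtLeast 2 2 ↥S) : 4 ≤ Nat.card S := by
  obtain ⟨A, -, -, hA⟩ := hr
  exact le_trans (by norm_num at hA ⊢; exact hA) (Subgroup.card_le_card_group A)

/-- No simple system lives on a group of order above two whose involutions lie in a central elementary subgroup
containing the commutators. -/
theorem false_of_omega (hS : IsPGroup 2 S) (h : F.IsSimple 2) (hcard : Nat.card S ≠ 2) (U : Subgroup Ω)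
    (hUS : U ≤ S) (hcen : ∀ u ∈ U, ∀ g ∈ S, g * u = u * g) (hexp : ∀ u ∈ U, u * u = 1)
    (hinv : ∀ x ∈ S, x * x = 1 → x ∈ U) (hder : ∀ a ∈ S, ∀ b ∈ S, a * b * a⁻¹ * b⁻¹ ∈ U) : False := by
  haveI : Fact (Nat.Prime 2) := ⟨Nat.prime_two⟩
  haveI := finite_of_le hUS
  obtain ⟨-, hN⟩ := isNormal_iff.1 (isNormal_self_of_omega hS h.1 U hUS hcen hexp hinv hder)
  have hT : ∀ (P : Subgroup Ω) (f : Ω → Ω), P ≤ U → IsMap F P f →
      ∃ α ∈ F.autGroup U, ∀ x ∈ P, autMap α x = f x := by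
    intro P f hP hf
    obtain ⟨g, hg, hgP, -⟩ := hN P f hf
    have hgU := hg.mono (hUS.trans le_sup_right)
    have himg : g '' (U : Set Ω) = U := by
      refine Set.eq_of_subset_of_ncard_le ?_ ?_ (Set.toFinite _)
      · rintro _ ⟨u, hu, rfl⟩
        refine hinv _ (hgU.mem_S hu) ?_
        rw [← hgU.map_mul hu hu, hexp u hu, hgU.map_one]
      · rw [Set.InjOn.ncard_image]
        exact hgU.injOn
    obtain ⟨α, hα, he⟩ := IsIso.exists_aut (⟨hgU, himg⟩ : IsIso F U U g)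
    exact ⟨α, hα, fun x hx => by rw [he x (hP hx), hgP x hx]⟩
  rcases h.2.2 U _ (inner_isNormalIn hS h.1 hUS (fun x hx y hy => hcen y hy x (hUS hx))
    hT) with e | ⟨e, -⟩
  · haveI : Nontrivial S := (Subgroup.nontrivial_iff_ne_bot S).2 h.2.1
    obtain ⟨n, hn, hc⟩ := hS.nontrivial_iff_card.1 inferInstance
    obtain ⟨z, hz⟩ := exists_prime_orderOf_dvd_card' (G := S) 2 (hc ▸ dvd_pow_self 2 (by omega))
    have hzU : (z : Ω) ∈ U := hinv _ z.2 (by
      rw [← Subgroup.coe_mul, ← pow_two, ← hz, pow_orderOf_eq_one]; rfl)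
    rw [e, Subgroup.mem_bot] at hzU
    rw [show z = 1 from Subtype.ext hzU, orderOf_one] at hz
    norm_num at hz
  · subst e
    exact hcard ((S5337.simple_iff hS F h.1 fun x hx y hy => hcen y hy x hx).1 h).1

end Cfsg.Agent.H39.FusionRankTwo
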