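import Cfsg.Agent.H39.FusionRankTwo.Simple
import Cfsg.Agent.H39.FusionRankTwo.PSLModel
import Cfsg.Agent.H39.FusionShape.Main

/-!
Simple saturated systems on 2-groups of rank two are those of `PSL₂` and `PSL₃` in odd characteristic.
-/

set_option autoImplicit false
set_option linter.style.haveILetI false

namespace Cfsg.Agent.H39.FusionRankTwo

open Cfsg Cfsg.FusionSystem Cfsg.Agent.FusionSys Cfsg.Agent.H39.FusionShape

universe u

variable {Ω : Type u} [Group Ω] {S : Subgroup Ω} [Finite S] {F : FusionSystem S}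

/-- With full hyperfocal subgroup each class of candidates is fused, unless the other one generates. -/
theorem has_of_hyperfocal (hS : IsPGroup 2 S) (hF : F.IsSaturated 2) (hyp : F.hyperfocalSubgroup 2 = S)
    (D : Shape S) (i : Bool) {K : Subgroup S} (hK : K.index = 2) (hKc : ∀ P, D.Cand (!i) P → P ≤ K) :
    D.Has (topSys F) i := by
  classical
  by_contra hcon
  have hE := isSaturated_topSys hS hF
  have h : ∀ P, (topSys F).IsEssential 2 P → P ≤ K := fun P hP => by
    obtain ⟨k, hk, hh⟩ := D.exists_cand hS hE hP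
    have hki : k = !i := by
      revert hh hcon; cases i <;> cases k <;> simp_all
    exact hKc P (hki ▸ hk)
  have hle : F.hyperfocalSubgroup 2 ≤ K.map S.subtype := by
    refine (Subgroup.closure_le _).2 ?_
    rintro _ ⟨P, α, x, hP, -, rfl⟩
    have hα := (mem_autGroup_iff hP).1 α.2
    let f : S → S := fun v => if hv : autMap (α : MulAut P) v ∈ S then ⟨_, hv⟩ else 1
    have hm : IsMap (topSys F) (P.subgroupOf S) f := by
      refine isMap_topSys.2 ⟨_, hα.mono (by rintro _ ⟨v, hv, rfl⟩; exact hv), fun v hv => ?_⟩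
      simp only [f, dif_pos (hP (autMap_mem (α : MulAut P) (show (v : Ω) ∈ P from hv)))]
    have hx : (⟨x, hP x.2⟩ : S) ∈ P.subgroupOf S := x.2
    refine ⟨_, mem_of_isMap hS D.top hE (commutator_top_le_of_index_two hK) h hm hx, ?_⟩
    simp only [f, dif_pos (hP (autMap_mem (α : MulAut P) x.2)), Subgroup.coe_subtype, Subgroup.coe_mul,
      Subgroup.coe_inv]
    rw [autMap_coe]
  rw [hyp] at hle
  have htop : K = ⊤ := by
    rw [eq_top_iff]
    intro v _
    obtain ⟨w, hw, e⟩ := hle v.2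
    exact Subtype.ext e ▸ hw
  rw [htop, Subgroup.index_top] at hK
  omega

/-- A system equal to the pullback of a group is realised in any isomorphic group. -/
theorem exists_realized {G H : Type*} [Group G] [Group H] [Finite G] {j : S →* G}
    (hj : Function.Injective j) (heq : topSys F = pullSys j hj)
    (hT : ∃ T : Sylow 2 G, (T : Subgroup G) = j.range) (e : G ≃* H) :
    ∃ ι : S →* H, F.IsRealizedBy ι ∧ ∃ T : Sylow 2 H, (T : Subgroup H) = ι.range := by
  haveI : Fact (Nat.Prime 2) := ⟨Nat.prime_two⟩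
  have h : (topSys F).IsRealizedBy (j.comp (⊤ : Subgroup S).subtype) := by
    rw [heq]; exact isRealizedBy_pull hj
  obtain ⟨hi, hr⟩ := isRealizedBy_of_topSys h
  obtain ⟨T, hT⟩ := hT
  have hes : Function.Surjective e.toMonoidHom := e.surjective
  refine ⟨e.toMonoidHom.comp j, ⟨e.injective.comp hj, fun P hP φ hφ => (hr P hP φ hφ).trans ?_⟩,
    T.mapSurjective hes, ?_⟩
  · constructor
    · rintro ⟨g, hg⟩
      refine ⟨e g, fun x => ?_⟩
      have hx : j ⟨φ x, hφ x⟩ = g * j ⟨x, hP x.2⟩ * g⁻¹ := hg x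
      show e (j _) = e g * e (j _) * (e g)⁻¹
      rw [hx, map_mul, map_mul, map_inv]
    · rintro ⟨g, hg⟩
      refine ⟨e.symm g, fun x => e.injective ?_⟩
      have hx : e (j ⟨φ x, hφ x⟩) = g * e (j ⟨x, hP x.2⟩) * g⁻¹ := hg x
      show e (j _) = e (e.symm g * j _ * (e.symm g)⁻¹)
      rw [hx, map_mul, map_mul, map_inv, e.apply_symm_apply]
  · rw [Sylow.coe_mapSurjective, hT, MonoidHom.range_comp]

/-- The conclusion. -/
def SimpleConcl (F : FusionSystem S) : Prop :=
  ((∃ m : ℕ, Nonempty (↥S ≃* DihedralGroup m)) ∨ Cfsg.IsQuasiDihedral ↥S ∨ Cfsg.IsWreathed ↥S) ∧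
  ∃ (K : Type) (_ : Field K) (_ : Fintype K) (q : ℕ), Fintype.card K = q ∧ Odd q ∧
    (((q % 8 = 1 ∨ q % 8 = 7) ∧ ∃ ι : ↥S →* Matrix.ProjectiveSpecialLinearGroup (Fin 2) K, F.IsRealizedBy ι ∧
      ∃ T : Sylow 2 (Matrix.ProjectiveSpecialLinearGroup (Fin 2) K),
        (T : Subgroup (Matrix.ProjectiveSpecialLinearGroup (Fin 2) K)) = ι.range) ∨
    (∃ ι : ↥S →* Matrix.ProjectiveSpecialLinearGroup (Fin 3) K, F.IsRealizedBy ι ∧
      ∃ T : Sylow 2 (Matrix.ProjectiveSpecialLinearGroup (Fin 3) K),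
        (T : Subgroup (Matrix.ProjectiveSpecialLinearGroup (Fin 3) K)) = ι.range))

theorem dihedral_simple (hS : IsPGroup 2 S) (hF : F.IsSaturated 2) (hyp : F.hyperfocalSubgroup 2 = S) {m : ℕ}
    (hm : 4 ≤ m) (e : S ≃* DihedralGroup m) : SimpleConcl F := by
  refine ⟨Or.inl ⟨m, ⟨e⟩⟩, ?_⟩
  obtain ⟨k, hk1, c, y, h⟩ := exists_tGen_of_dihedral hS hm e
  obtain ⟨p, hp, hodd, hp8, j, hj, hT, hperf⟩ := exists_psl_two hS hk1 h
  set D := dihedralShape h hS (Nat.le_self_pow (by omega) 2)
  have hK : ∀ (i : Bool) P, D.Cand i P → P ≤ h.kPart i := fun i P hP => h.cand_le_kPart h.leven hP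
  have heq : topSys F = pullSys j hj := D.eq_of_profile hS
    (Shape.pinned_of_small hS D fun i P hP => Or.inl (dihedral_cand_klein h hP))
    (isSaturated_topSys hS hF) (isSaturated_pull hj hS hT) fun i =>
      iff_of_true (has_of_hyperfocal hS hF hyp D i (h.index_kPart ⟨0, rfl⟩ (!i)) (hK (!i)))
        (has_of_perfect hj hS D hperf hT i (h.index_kPart ⟨0, rfl⟩ (!i)) (hK (!i)))
  exact ⟨ZMod p, inferInstance, inferInstance, p, ZMod.card p, hodd,
    Or.inl ⟨Or.inl hp8, exists_realized hj heq hT MulEquiv.ulift⟩⟩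

theorem semiDih_simple (hS : IsPGroup 2 S) (hF : F.IsSaturated 2) (hyp : F.hyperfocalSubgroup 2 = S)
    (hsd : Cfsg.IsQuasiDihedral S) : SimpleConcl F := by
  refine ⟨Or.inr (Or.inl hsd), ?_⟩
  obtain ⟨m, x, y, h⟩ := H39.exists_sdGen hsd
  obtain ⟨p, hp, hodd, j, hj, hT, hperf⟩ := exists_psl_semiDih hS h
  set D := semiDihShape h
  have hpin : D.Pinned := Shape.pinned_of_small hS D fun i P hP => by
    cases i
    exacts [Or.inl hP, Or.inr hP]
  have hK : ∀ (i : Bool) P, D.Cand (!i) P → P ≤ h.evenPart (if i then 0 else 1) := fun i P hP => by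
    cases i
    exacts [sd_quat_le h (hP : Nonempty (P ≃* QuaternionGroup 2)).some, sd_klein_le h hP]
  have heq : topSys F = pullSys j hj := D.eq_of_profile hS hpin
    (isSaturated_topSys hS hF) (isSaturated_pull hj hS hT) fun i =>
      iff_of_true (has_of_hyperfocal hS hF hyp D i (h.index_evenPart _) (hK i))
        (has_of_perfect hj hS D hperf hT i (h.index_evenPart _) (hK i))
  exact ⟨ZMod p, inferInstance, inferInstance, p, ZMod.card p, hodd,
    Or.inr (exists_realized hj heq hT MulEquiv.ulift)⟩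

theorem wreathed_simple (hS : IsPGroup 2 S) (hF : F.IsSaturated 2) (hyp : F.hyperfocalSubgroup 2 = S)
    (hw : Cfsg.IsWreathed S) : SimpleConcl F := by
  refine ⟨Or.inr (Or.inr hw), ?_⟩
  obtain ⟨m, x, y, z, h⟩ := H39.exists_wGen hw
  obtain ⟨p, hp, hodd, j₁, hj₁, hT₁, hperf⟩ := exists_psl_wreathed h
  obtain ⟨j, hj, hT, heq⟩ := exists_twist_eq h j₁ hj₁ hT₁ hperf (isSaturated_topSys hS hF)
    (has_of_hyperfocal hS hF hyp (wreathShape h) false (index_wreathEven h) fun P hP => by
      obtain ⟨δ, hδ⟩ := hP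
      exact exc_le_even h hδ)
    (has_of_hyperfocal hS hF hyp (wreathShape h) true h.index_base fun P hP => le_of_eq hP)
  exact ⟨ZMod p, inferInstance, inferInstance, p, ZMod.card p, hodd,
    Or.inr (exists_realized hj heq hT MulEquiv.ulift)⟩

/-- A simple system on a 2-group of rank two is that of a projective special linear group. -/
theorem simple_main (hS : IsPGroup 2 S) (hF : F.IsSaturated 2)
    (hr : Cfsg.PRankAtLeast 2 2 ↥S ∧ ¬ Cfsg.PRankAtLeast 2 3 ↥S) (hsimple : F.IsSimple 2) :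
    SimpleConcl F := by
  haveI : Fact (Nat.Prime 2) := ⟨Nat.prime_two⟩
  have hcard : Nat.card S ≠ 2 := by
    have := four_le_card hr.1
    omega
  have hyp := hyperfocal_eq hS hsimple hcard
  have habelian : (∀ a b : S, a * b = b * a) → False := fun hab =>
    hcard ((S5337.simple_iff hS F hF fun x hx y hy =>
      congrArg Subtype.val (hab ⟨x, hx⟩ ⟨y, hy⟩)).1 hsimple).1
  letI := Fintype.ofFinite (GaloisField 2 4)
  have hK : Fintype.card (GaloisField 2 4) = 16 := by
    rw [← Nat.card_eq_fintype_card, GaloisField.card 2 4 (by norm_num)]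
    norm_num
  rcases S5213.result hS F hF hr (center_eq_bot hS hsimple hcard) hK with
    ⟨m, ⟨e⟩⟩ | h | h | ⟨n, k, ⟨e⟩⟩ | ⟨T, ⟨e⟩⟩
  · obtain hm | hm := le_or_gt 4 m
    · exact dihedral_simple hS hF hyp hm e
    · exact (habelian (comm_of_dihedral hS e hm)).elim
  · exact semiDih_simple hS hF hyp h
  · exact wreathed_simple hS hF hyp h
  · exact (habelian fun a b => e.injective (by rw [map_mul, map_mul, mul_comm])).elim
  · obtain ⟨hexp, hinv, hder⟩ := center_of_unitary hK e
    obtain ⟨U, hUS, hcen, hexp', hinv', hder'⟩ := exists_omega hexp hinv hder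
    exact (false_of_omega hS hsimple hcard U hUS hcen hexp' hinv' hder').elim

end Cfsg.Agent.H39.FusionRankTwo
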